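import Cfsg.Agent.Fi23Spider.CK.Main
import Cfsg.Agent.CosetCert.Member

/-! Generated: the word lies in the subgroup. -/

namespace Cfsg.Agent.Fi23Spider.CK

open Cfsg.Agent.CosetCert

/-- The word. -/
def word : List (Fin 11 × Bool) := [(5, true)]

theorem member : PresentedGroup.mk (wordRels relWords) (FreeGroup.mk word) ∈
    Data.sub (wordRels relWords) (subLetters.map FreeGroup.of) :=
  Data.mem_sub_of_path mem_valid spells word 1 0xb28 (by decide +kernel)

end Cfsg.Agent.Fi23Spider.CK
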